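import Cfsg.Agent.H748.HT.SzU
import Cfsg.Agent.H740.FiveSz
import Cfsg.Agent.H133.PB.LieCross
import Cfsg.Agent.H624.HT.RowOf

/-!
# S4933, box R3: the Suzuki groups in characteristic 2 (helper748)
-/

set_option autoImplicit false

open Cfsg Cfsg.Agent.Characters.Core

namespace Cfsg.Agent.H748.HT

open Cfsg.Agent.H316.HT

/-- the degree `2^m (q - 1)` -/
theorem exists_deg {F : Type} [Field F] [Fintype F] {m : ℕ} (hm : 1 ≤ m) (hF : Fintype.card F = 2 ^ (2 * m + 1))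
    {K : Type*} [Group K] (e : K ≃* ↥(Cfsg.Lie.Sz F (2 ^ (m + 1)))) :
    (2 ^ (2 * m + 1) - 1) * 2 ^ m ∈ charDegrees K := by
  obtain ⟨n, rfl⟩ : ∃ n, m = n + 1 := ⟨m - 1, by omega⟩
  obtain ⟨k, hk⟩ : ∃ k, k = 2 ^ n := ⟨_, rfl⟩
  have hk1 : 1 ≤ k := hk ▸ Nat.one_le_two_pow
  have hqk : 2 ^ (2 * (n + 1) + 1) = 8 * k ^ 2 := by
    rw [hk, ← pow_mul, show (8 : ℕ) = 2 ^ 3 by norm_num, ← pow_add]
    congr 1
    ring
  have hk2 : 1 ≤ k ^ 2 := Nat.one_le_pow _ _ hk1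
  have hkk : k ≤ k ^ 2 := by nlinarith
  obtain ⟨t, ht⟩ : ∃ t, t + 1 = 8 * k ^ 2 := ⟨8 * k ^ 2 - 1, by omega⟩
  obtain ⟨a, ha⟩ : ∃ a, a = 8 * k ^ 2 + 4 * k + 1 := ⟨_, rfl⟩
  obtain ⟨b, hb⟩ : ∃ b, b + 4 * k = 8 * k ^ 2 + 1 := ⟨8 * k ^ 2 + 1 - 4 * k, by omega⟩
  have hdeg := H678.SuzGraph.mem_charDegrees hm hF ⟨e⟩ k t a b (by rw [hk]; rfl) ht ha hb
  have h1 := (hdeg (t * (2 * k))).2 (by tauto)
  have h2 : (2 ^ (2 * (n + 1) + 1) - 1) * 2 ^ (n + 1) = t * (2 * k) := by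
    rw [hqk, ← ht, Nat.add_sub_cancel, hk, pow_succ, mul_comm 2]
  rw [h2]
  exact h1

/-- the character: in the principal 2-block, `vd = m` -/
theorem rowIn_sz (K : Type) [Group K] [Finite K] (h : Lie.IsoSuzuki K) : RowIn 2 K := by
  intro M hM P a ha hcd
  have h' := h
  obtain ⟨F, _, _, m, hm, hF, ⟨e⟩⟩ := h'
  obtain ⟨χ, hχ⟩ := exists_deg hm hF e
  have hp2 : Fact (Nat.Prime 2) := ⟨Nat.prime_two⟩
  have hodd : ¬ 2 ∣ 2 ^ (2 * m + 1) - 1 := by
    have e1 : 2 ^ (2 * m + 1) = 2 * 2 ^ (2 * m) := by rw [pow_succ, mul_comm]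
    have e3 : 0 < 2 ^ (2 * m) := by positivity
    omega
  have h7 : 7 ≤ 2 ^ (2 * m + 1) - 1 := by
    have h8 : 2 ^ 3 ≤ 2 ^ (2 * m + 1) := Nat.pow_le_pow_right (by norm_num) (by omega)
    omega
  have hvd : vd 2 (χ : K → ℂ) = m := by
    unfold vd
    rw [hχ, Nat.factorization_mul (by omega) (by positivity), Finsupp.add_apply,
      Nat.factorization_eq_zero_of_not_dvd hodd, zero_add, Nat.Prime.factorization_pow Nat.prime_two]
    simp
  -- an odd prime divisor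
  obtain ⟨r, hr, hrd⟩ := Nat.exists_prime_and_dvd (n := 2 ^ (2 * m + 1) - 1) (by omega)
  have hr2 : r ≠ 2 := by
    rintro rfl
    exact hodd hrd
  have hK : IsLieTypeChar 2 K := by
    unfold IsLieTypeChar
    tauto
  have hmem : χ ∈ principalBlock M K :=
    H133.PB.mem_principal_of_lie Nat.prime_two hr hr2 hK χ (by rw [hχ]; exact hrd.mul_right _) hM
  have hone : ((χ : K → ℂ) ∘ e.symm) 1 ≠ 1 := by
    intro h1
    have h2 : charDegree (χ : K → ℂ) = 1 := by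
      unfold charDegree
      have h3 : (χ : K → ℂ) 1 = 1 := by simpa using h1
      rw [h3]; simp
    rw [hχ] at h2
    have := Nat.eq_one_of_mul_eq_one_right h2
    omega
  have hle := le_of_CD hm hF e P hcd (isIrr_comp e.symm.toMonoidHom e.symm.surjective χ.2) hone
  exact ⟨χ, hmem, by rw [hvd]; omega, by rw [hvd]; exact hle⟩

theorem not_dvd_index {A : Type} [Group A] [Finite A] (N : Subgroup A) [hN : N.Normal] (h : Lie.IsoSuzuki N)
    (hc : Subgroup.centralizer (N : Set A) = ⊥) : ¬ 2 ∣ N.index := by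
  obtain ⟨F, _, _, m, hm, hF, ⟨e⟩⟩ := h
  have hidx : N.index ∣ 2 * m + 1 := by
    have h1 := H740.FiveBase.index_dvd_out N hN hc
    rw [H55.OutGen.card_out_congr e, S2126.result hm hF] at h1
    exact h1
  intro h2
  have := h2.trans hidx
  omega

/-- a `p`-subgroup is contained in a normal subgroup of index prime to `p` -/
theorem le_of_not_dvd_index {p : ℕ} [hp : Fact p.Prime] {A : Type*} [Group A] [Finite A] (N : Subgroup A) [hN : N.Normal]
    (h : ¬ p ∣ N.index) (P : Subgroup A) (hP : IsPGroup p P) : P ≤ N := by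
  intro g hg
  obtain ⟨k, hk⟩ := hP ⟨g, hg⟩
  have hk' : g ^ p ^ k = 1 := congrArg Subtype.val hk
  have h1 : orderOf (QuotientGroup.mk g : A ⧸ N) ∣ p ^ k := by
    apply orderOf_dvd_of_pow_eq_one
    rw [← QuotientGroup.mk_pow, hk', QuotientGroup.mk_one]
  have h2 : orderOf (QuotientGroup.mk g : A ⧸ N) ∣ N.index := by
    rw [Subgroup.index_eq_card]
    exact orderOf_dvd_natCard _
  have h3 : Nat.Coprime (p ^ k) N.index := Nat.Coprime.pow_left k ((Nat.Prime.coprime_iff_not_dvd hp.out).2 h)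
  have h4 : orderOf (QuotientGroup.mk g : A ⧸ N) = 1 := Nat.eq_one_of_dvd_coprimes h3 h1 h2
  exact (QuotientGroup.eq_one_iff g).1 (orderOf_eq_one_iff.1 h4)

/-- **The row of the Suzuki groups at `p = 2`** -/
theorem row_sz (K : Type) [Group K] [Finite K] (h : Lie.IsoSuzuki K) : Row 2 K := by
  have hp : Fact (Nat.Prime 2) := ⟨Nat.prime_two⟩
  refine H624.HT.Row.of (rowIn_sz K h) ?_
  intro A _ _ N _ ⟨e⟩ hC M _ P a _ _ hPN
  exfalso
  apply hPN
  have hN : Lie.IsoSuzuki N := by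
    obtain ⟨F, i1, i2, m, hm, hF, ⟨e'⟩⟩ := h
    exact ⟨F, i1, i2, m, hm, hF, ⟨e.trans e'⟩⟩
  exact le_of_not_dvd_index N (not_dvd_index N hN hC) _ P.2

end Cfsg.Agent.H748.HT
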