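import Cfsg.Agent.H266.HT.TitsTwo
import Cfsg.Agent.ChevStructure.FieldMap

/-!
# S4933, own characteristic 2: the groups `²F₄(q)` contain the Tits group, so their rows are vacuous
-/

set_option autoImplicit false

namespace Cfsg.Agent.H748.HT

open Cfsg Cfsg.Lie Cfsg.Agent.ChevStructure.FieldMap Cfsg.Agent.H483.HT Cfsg.Agent.H316.HT

theorem map_genSubgroup_le' (D : ChevalleyDatum) {F : Type*} [Field F] {K : Type*} [Field K] (f : F →+* K)
    {S₀ : Set (List (ℕ × F))} {S : Set (List (ℕ × K))} (h : ∀ w ∈ S₀, (w.map fun p => (p.1, f p.2)) ∈ S) :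
    (D.genSubgroup F S₀).map (Matrix.GeneralLinearGroup.map f) ≤ D.genSubgroup K S := by
  unfold ChevalleyDatum.genSubgroup
  rw [MonoidHom.map_closure]
  refine Subgroup.closure_mono ?_
  rintro _ ⟨g, ⟨w, hw, hg⟩, rfl⟩
  refine ⟨_, h w hw, ?_⟩
  show (g : Matrix D.Idx D.Idx F).map f = _
  rw [hg]
  exact wordMat_map D f w

/-- **`²F₄(2) ≤ ²F₄(q)`** -/
theorem map_twistedF4_le {F : Type*} [Field F] (f : ZMod 2 →+* F) {e : ℕ} (he : e ≠ 0) :
    (twistedF4 (ZMod 2) 1).map (Matrix.GeneralLinearGroup.map f) ≤ twistedF4 F e := by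
  have hp : ∀ (t : ZMod 2) {n : ℕ}, n ≠ 0 → t ^ n = t := by
    intro t n hn
    fin_cases t
    · exact zero_pow hn
    · exact one_pow n
  refine map_genSubgroup_le' chevF4 f ?_
  rintro w (⟨t, h⟩ | ⟨t, u, h⟩)
  · left
    refine ⟨f t, ?_⟩
    rcases h with rfl | rfl
    · left; simp [f4PairWord, ← map_pow, hp t he]
    · right; simp [f4PairWord, ← map_pow, hp t he]
  · right
    refine ⟨f t, f u, ?_⟩
    rcases h with rfl | rfl
    · left; simp [b2ClassWord, ← map_pow, ← map_add, hp t he, hp t (Nat.succ_ne_zero _), hp u (mul_ne_zero two_ne_zero he), hp u (two_ne_zero)]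
    · right; simp [b2ClassWord, ← map_pow, ← map_add, hp t he, hp t (Nat.succ_ne_zero _), hp u (mul_ne_zero two_ne_zero he), hp u (two_ne_zero)]

theorem nv_of_map_le {p : ℕ} {G H : Type*} [Group G] [Group H] (g : G →* H) (hg : Function.Injective g)
    {S : Subgroup G} {T : Subgroup H} (h : S.map g ≤ T) (hS : NV p ↥S) : NV p ↥T :=
  NV.of_le h (hS.congr (S.equivMapOfInjective g hg))

theorem map_injective {ι : Type*} [Fintype ι] [DecidableEq ι] {K F : Type*} [Field K] [Field F] (f : K →+* F) :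
    Function.Injective (Matrix.GeneralLinearGroup.map (n := ι) f) := by
  intro x y hxy
  refine Units.ext (Matrix.ext fun i j => f.injective ?_)
  exact congrArg (fun z : Matrix.GeneralLinearGroup ι F => (z : Matrix ι ι F) i j) hxy

/-- **`²F₄(q)` has a non-metabelian `2`-subgroup** -/
theorem nv_twistedF4 {F : Type*} [Field F] [CharP F 2] {e : ℕ} (he : e ≠ 0) : NV 2 ↥(twistedF4 F e) := by
  have h1 : NV 2 TitsGroup := Cfsg.Agent.H266.HT.TitsTwo.nv_tits ⟨MulEquiv.refl _⟩
  have h2 : NV 2 ↥(twistedF4 (ZMod 2) 1) := h1.of_subgroup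
  let f : ZMod 2 →+* F := ZMod.castHom (dvd_refl 2) F
  exact nv_of_map_le _ (map_injective f) (map_twistedF4_le f he) h2

/-- **own characteristic, `²F₄`** -/
theorem nv_f4t {S : Type*} [Group S] (h : Lie.Iso2F4 S) : NV 2 S := by
  obtain ⟨K, _, _, m, hm, hK, ⟨e⟩⟩ := h
  have h1 : CharP K 2 := by
    have h2 : ringChar K = 2 := by
      refine FiniteField.even_card_iff_char_two.2 ?_
      rw [hK]
      exact Nat.even_iff.1 ((even_two).pow_of_ne_zero (by omega))
    rw [← h2]
    infer_instance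
  exact (nv_twistedF4 (F := K) (pow_ne_zero m two_ne_zero)).congr e.symm

theorem row2_f4t {S : Type*} [Group S] (h : Lie.Iso2F4 S) : Row 2 S :=
  Cfsg.Agent.H266.HT.TitsTwo.row_of_nv (nv_f4t h)

end Cfsg.Agent.H748.HT
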