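import Cfsg.Agent.H916.HT.OwnFour
import Cfsg.Agent.H748.HT.LThreeRow
import Cfsg.Agent.H748.HT.Sz
import Cfsg.Agent.H298.HT.RFour
import Cfsg.Agent.H408.HT.U3Own
import Cfsg.Agent.H652.HT.Lin
import Cfsg.Agent.H218.HT.DDD4
import Cfsg.Agent.H564.HT.DDE6t
import Cfsg.Agent.H720.HT.Bridge
import Cfsg.Agent.H886.HT.SpFourRow
import Cfsg.Agent.H748.HT.TwoFFour
import Cfsg.Agent.H718.HT.L2
import Cfsg.Agent.H892.HT.Disp

/-!
# S4933, own characteristic `2`: the field `own` of `TwoRows`, from the rows of the families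
-/

set_option autoImplicit false

namespace Cfsg.Agent.H748.HT

open Cfsg Cfsg.Agent.H316.HT Cfsg.Agent.H892.HT Cfsg.Agent.H720.HT

theorem even_of_charP {F : Type} [Field F] [Fintype F] [CharP F 2] : Even (Fintype.card F) := by
  have h1 : ringChar F = 2 := ringChar.eq F 2
  exact Nat.even_iff.2 (FiniteField.even_card_of_char_two h1)

/-- **the field `own` of `TwoRows`** -/
theorem own_two : SpR Row 2 fun K => IsLieTypeChar 2 K := by
  have hp : Fact (Nat.Prime 2) := ⟨Nat.prime_two⟩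
  have hp2 : Nat.Prime 2 := Nat.prime_two
  intro K _ _ hs hna hK
  rcases hK with ⟨F, _, _, _, n, hn, h4, ⟨e⟩⟩ | ⟨F, _, _, _, m, hm, h3, ⟨e⟩⟩ | ⟨F, _, _, _, n, q, hF, hn, h3, ⟨e⟩⟩ |
    ⟨F, _, _, _, m, hm, ho, ⟨e⟩⟩ | ⟨F, _, _, _, m, hm, ⟨e⟩⟩ | ⟨F, _, _, _, m, a, b, hm, hab, ⟨e⟩⟩ |
    ⟨F, _, _, _, h⟩ | ⟨F, _, _, _, q, hq, h⟩ | ⟨-, h⟩ | ⟨-, h⟩ | ⟨h, -⟩
  · refine Row.congr e ?_
    rcases lt_or_ge n 5 with h5 | h5
    · interval_cases n
      · exact Cfsg.Agent.H916.HT.Own.row_psl2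
      · rcases Nat.lt_or_ge (Fintype.card F) 4 with h | h
        · have h2 : Fintype.card F = 2 := by
            have h6 := Fintype.one_lt_card (α := F)
            obtain ⟨k, hk⟩ := even_of_charP (F := F)
            omega
          have h7 : Fact (Nat.Prime 7) := ⟨by norm_num⟩
          have h8 : IsSimpleGroup (Matrix.ProjectiveSpecialLinearGroup (Fin 3) F) := Cfsg.Agent.S0249.result 3 le_rfl
          have h9 : IsSimpleGroup (Matrix.ProjectiveSpecialLinearGroup (Fin 2) (ZMod 7)) :=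
            MulEquiv.isSimpleGroup (psl_three_two h2).some.symm
          refine row2_psl3_two h2 (Cfsg.Agent.H718.HT.row_psl2 (ZMod 7) ?_ ?_)
          · rw [ZMod.card]; decide
          · rw [ZMod.card]; norm_num
        · exact row2_psl3 h
      · exact Cfsg.Agent.H298.HT.row_psl4 F even_of_charP
    · exact row2_of_dd (Cfsg.Agent.H652.HT.dd_psl h5)
  · have hsS := MulEquiv.isSimpleGroup e.symm
    refine Row.congr e ?_
    rcases Nat.lt_or_ge m 3 with h | h
    · obtain rfl : m = 2 := by omega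
      refine Cfsg.Agent.H886.HT.row2_psp4 F ?_
      obtain ⟨k, hk⟩ := even_of_charP (F := F)
      have h5 := h3 rfl
      omega
    · exact row2_of_dd (Cfsg.Agent.H652.HT.dd_psp h)
  · refine Row.congr e ?_
    have hev : Even q := by
      have h1 : Even (q ^ 2) := hF ▸ even_of_charP (F := F)
      exact (Nat.even_pow.1 h1).1
    rcases lt_or_ge n 5 with h5 | h5
    · interval_cases n
      · refine Cfsg.Agent.H408.HT.row_psu3 hF ?_
        have h6 := Fintype.one_lt_card (α := F)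
        rw [hF] at h6
        have h7 : q ≠ 0 := by rintro rfl; simp at h6
        have h8 : q ≠ 1 := by rintro rfl; simp at h6
        have h9 : q ≠ 2 := fun h => h3 ⟨rfl, h⟩
        omega
      · exact Cfsg.Agent.H298.HT.row_psu4 F q hF hev
    · exact row2_of_dd (Cfsg.Agent.H652.HT.dd_psu hF h5)
  · exact absurd even_of_charP (Nat.not_even_iff_odd.2 ho)
  · exact Row.congr e (row2_of_dd (Cfsg.Agent.H652.HT.dd_oplus hm))
  · exact Row.congr e (row2_of_dd (Cfsg.Agent.H652.HT.dd_ominus hab (by omega)))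
  · have h30 : (3 : F) ≠ 0 := by
      have h2 : (2 : F) = 0 := CharP.cast_eq_zero F 2
      intro h
      exact one_ne_zero (α := F) (by linear_combination h - h2)
    rcases h with ⟨h3, ⟨e⟩⟩ | ⟨⟨e⟩⟩ | ⟨⟨e⟩⟩ | ⟨⟨e⟩⟩ | ⟨⟨e⟩⟩
    · obtain ⟨u, hu0, hu1⟩ : ∃ u : F, u ≠ 0 ∧ u ≠ 1 := by
        classical
        by_contra hcon
        push Not at hcon
        have h4 : (Finset.univ : Finset F) ⊆ {0, 1} := fun x _ => by
          by_cases hx : x = 0
          · simp [hx]
          · simp [hcon x hx]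
        have h5 := (Finset.card_le_card h4).trans Finset.card_le_two
        rw [Finset.card_univ] at h5
        omega
      exact Row.congr e (row2_of_dd (Cfsg.Agent.H218.HT.dd_G2 F h30 hu0 hu1))
    · exact Row.congr e (row2_of_dd (Cfsg.Agent.H218.HT.dd_F4 F))
    · exact Row.congr e (row2_of_dd (Cfsg.Agent.H218.HT.dd_E6 F))
    · exact Row.congr e (row2_of_dd (Cfsg.Agent.H218.HT.dd_E7 F))
    · exact Row.congr e (row2_of_dd (Cfsg.Agent.H218.HT.dd_E8 F))
  · rcases h with ⟨hF, ⟨e⟩⟩ | ⟨hF, ⟨e⟩⟩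
    · exact Row.congr e (row2_of_dd (Cfsg.Agent.H564.HT.dd_E6t F hF))
    · exact Row.congr e (row2_of_dd (Cfsg.Agent.H218.HT.D4.dd_D4t F hq hF))
  · exact row_sz K h
  · exact row2_f4t h
  · norm_num at h

end Cfsg.Agent.H748.HT
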