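import Cfsg.Agent.ClassicalGeometry.AutPSL.Main

/-!
# S4933, box R4: outer 2-automorphisms of `PSL₃(2^f)` (helper748)

* `le_of_class_two` : if `P` is a Sylow 2-subgroup of `A`, `N ≃* PSL₃(F)` normal in `A`, `C_A(N) = 1`, `F` of
  characteristic 2, and `[[P, P], P] = 1`, then `P ≤ N`.
-/

set_option autoImplicit false
set_option linter.unusedSectionVars false

open Matrix

namespace Cfsg.Agent.H748.HT

open Cfsg.Agent.ClassicalGeometry.AutPSL.Auto Cfsg.Agent.ClassicalGeometry.AutPSL.Main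
  Cfsg.Agent.ClassicalGeometry.AutPSL.Root Cfsg.Agent.ClassicalGeometry.AutPSL.SylowU

section mat

variable {F : Type*} [Field F]

/-- elementary matrices -/
abbrev tv {i j : Fin 3} (h : i ≠ j) (t : F) : Matrix.SpecialLinearGroup (Fin 3) F :=
  Matrix.SpecialLinearGroup.transvection h t

theorem tv_val {i j : Fin 3} (h : i ≠ j) (t : F) : (tv h t).1 = 1 + single i j t := rfl

/-- the scalar is one -/
theorem eq_of_smul [CharP F 2] {A : GL (Fin 3) F} {u w : Matrix.SpecialLinearGroup (Fin 3) F} {c : F}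
    (hu : u.1.trace = 3) (hw : w.1.trace = 3) (h : w.1 = c • (cj A u).1) : A.1 * u.1 = w.1 * A.1 := by
  have h2 : (2 : F) = 0 := CharTwo.two_eq_zero
  have h1 : w.1 = c • (A.1 * u.1 * (A⁻¹ : GL (Fin 3) F).1) := h
  have h3 := congrArg Matrix.trace h1
  rw [Matrix.trace_smul, Matrix.trace_mul_comm, ← Matrix.mul_assoc, ← Units.val_mul, inv_mul_cancel, Units.val_one,
    Matrix.one_mul, hu, hw, smul_eq_mul] at h3
  have h4 : c = 1 := by
    have : (3 : F) = 1 := by linear_combination h2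
    rw [this, mul_one] at h3
    exact h3.symm
  rw [h4, one_smul] at h1
  rw [h1, Matrix.mul_assoc, ← Units.val_mul, inv_mul_cancel, Units.val_one, Matrix.mul_one]

theorem trace_tv {i j : Fin 3} (h : i ≠ j) (t : F) : (tv h t).1.trace = 3 := by
  rw [tv_val, trace_add, trace_one, Fintype.card_fin, trace_single_eq_of_ne _ _ _ h, add_zero]
  norm_num

theorem entries {A : Matrix (Fin 3) (Fin 3) F} {x y : Matrix (Fin 3) (Fin 3) F} (h : A * x = y * A) (i j : Fin 3) :
    A i 0 * x 0 j + A i 1 * x 1 j + A i 2 * x 2 j = y i 0 * A 0 j + y i 1 * A 1 j + y i 2 * A 2 j := by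
  have h1 := congrFun (congrFun h i) j
  rwa [Matrix.mul_apply, Matrix.mul_apply, Fin.sum_univ_three, Fin.sum_univ_three] at h1

theorem h01 : (0 : Fin 3) ≠ 1 := by decide
theorem h02 : (0 : Fin 3) ≠ 2 := by decide
theorem h12 : (1 : Fin 3) ≠ 2 := by decide

variable [Finite F]

theorem mem01 (t : F) : tv h01 t ∈ upper 3 F := mem_upper.2 fun i j hij => by
  rw [tv_val]
  fin_cases i <;> fin_cases j <;> simp [one_apply] at hij ⊢

theorem mem12 (t : F) : tv h12 t ∈ upper 3 F := mem_upper.2 fun i j hij => by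
  rw [tv_val]
  fin_cases i <;> fin_cases j <;> simp [one_apply] at hij ⊢

theorem mem02 (t : F) : tv h02 t ∈ upper 3 F := mem_upper.2 fun i j hij => by
  rw [tv_val]
  fin_cases i <;> fin_cases j <;> simp [one_apply] at hij ⊢

theorem trace_upper {u : Matrix.SpecialLinearGroup (Fin 3) F} (hu : u ∈ upper 3 F) : u.1.trace = 3 := by
  have h := mem_upper.1 hu
  rw [Matrix.trace, Fin.sum_univ_three, diag_apply, diag_apply, diag_apply, h 0 0 le_rfl, h 1 1 le_rfl, h 2 2 le_rfl]
  norm_num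

/-- the matrix equation -/
theorem eqn [CharP F 2] {A : GL (Fin 3) F} {u w : Matrix.SpecialLinearGroup (Fin 3) F} (hu : u.1.trace = 3)
    (hw : w ∈ upper 3 F) (h : pr (cj A u) = pr w) : A.1 * u.1 = w.1 * A.1 := by
  obtain ⟨c, hc⟩ := exists_smul_of_pr_eq h
  exact eq_of_smul hu (trace_upper hw) hc

theorem det_three_ne (A : GL (Fin 3) F) : A.1.det ≠ 0 := (A.1.isUnit_iff_isUnit_det.1 (Units.isUnit A)).ne_zero

/-- no graph automorphism -/
theorem false_of_itr [CharP F 2] (A : GL (Fin 3) F) (σ : F ≃+* F)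
    (h : ∀ u ∈ upper 3 F, ∃ s : F, lift (cj A * fld σ * itr) (pr u) = pr (tv h02 s * u)) : False := by
  have key : ∀ {i j : Fin 3} (hij : i ≠ j) (t s : F), tv hij t ∈ upper 3 F →
      lift (cj A * fld σ * itr) (pr (tv hij t)) = pr (tv h02 s * tv hij t) →
      A.1 * (tv hij.symm (σ (-t))).1 = (tv h02 s * tv hij t).1 * A.1 := by
    intro i j hij t s hm h1
    have e1 : lift (cj A * fld σ * itr) (pr (tv hij t)) = pr (cj A (tv hij.symm (σ (-t)))) := by
      rw [lift_pr]
      congr 1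
      show cj A (fld σ (itr (tv hij t))) = _
      rw [itr_transvection, fld_transvection]
    rw [e1] at h1
    exact eqn (trace_tv _ _) (mul_mem (mem02 s) hm) h1
  obtain ⟨s, hs⟩ := h _ (mem01 1)
  obtain ⟨s', hs'⟩ := h _ (mem12 1)
  have k1 := key h01 1 s (mem01 1) hs
  have k2 := key h12 1 s' (mem12 1) hs'
  have e10 := entries k1 1 0
  have e20 := entries k1 2 0
  have e02 := entries k1 0 2
  have e22 := entries k2 2 1
  have m2 : (tv h02 s * tv h01 (1 : F)).1 = (1 + single 0 2 s) * (1 + single 0 1 1) := rfl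
  have m4 : (tv h02 s' * tv h12 (1 : F)).1 = (1 + single 0 2 s') * (1 + single 1 2 1) := rfl
  rw [m2] at e10 e20 e02
  rw [m4] at e22
  simp [tv_val, one_apply, single_apply, Matrix.mul_apply, Fin.sum_univ_three, Matrix.add_apply] at e10 e20 e02 e22
  rw [e22, mul_zero, add_zero] at e02
  have e12 : A.1 1 2 = 0 := by
    have : A.1 0 2 = A.1 0 2 + A.1 1 2 := e02
    linear_combination -this
  apply det_three_ne A
  have f10 : A.1 1 1 = 0 := e10
  have f20 : A.1 2 1 = 0 := e20
  have f22 : A.1 2 2 = 0 := e22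
  rw [det_fin_three, f10, f20, f22, e12]
  ring

/-- type preserving case -/
theorem conj_of_fld [CharP F 2] (A : GL (Fin 3) F) (σ : F ≃+* F)
    (h : ∀ u ∈ upper 3 F, ∃ s : F, lift (cj A * fld σ) (pr u) = pr (tv h02 s * u)) :
    ∃ v ∈ upper 3 F, ∀ x : Matrix.ProjectiveSpecialLinearGroup (Fin 3) F, lift (cj A * fld σ) x = pr v * x * (pr v)⁻¹ := by
  have key : ∀ {i j : Fin 3} (hij : i ≠ j) (t s : F), tv hij t ∈ upper 3 F →
      lift (cj A * fld σ) (pr (tv hij t)) = pr (tv h02 s * tv hij t) →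
      A.1 * (tv hij (σ t)).1 = (tv h02 s * tv hij t).1 * A.1 := by
    intro i j hij t s hm h1
    have e1 : lift (cj A * fld σ) (pr (tv hij t)) = pr (cj A (tv hij (σ t))) := by
      rw [lift_pr]
      congr 1
      show cj A (fld σ (tv hij t)) = _
      rw [fld_transvection]
    rw [e1] at h1
    exact eqn (trace_tv _ _) (mul_mem (mem02 s) hm) h1
  have g01 : ∀ t : F, A.1 1 0 * σ t = 0 ∧ A.1 2 0 * σ t = 0 ∧ ∃ s, A.1 0 0 * σ t = t * A.1 1 1 + s * A.1 2 1 := by
    intro t
    obtain ⟨s, hs⟩ := h _ (mem01 t)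
    have k1 := key h01 t s (mem01 t) hs
    have m2 : (tv h02 s * tv h01 t).1 = (1 + single 0 2 s) * (1 + single 0 1 t) := rfl
    have e1 := entries k1 1 1
    have e2 := entries k1 2 1
    have e3 := entries k1 0 1
    rw [m2] at e1 e2 e3
    simp [tv_val, one_apply, single_apply, Matrix.mul_apply, Fin.sum_univ_three, Matrix.add_apply] at e1 e2 e3
    have e1' : A.1 1 0 * σ t = 0 := by
      rcases e1 with e1 | e1
      · have : A.1 1 0 = 0 := e1
        rw [this, zero_mul]
      · rw [e1, map_zero, mul_zero]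
    have e2' : A.1 2 0 * σ t = 0 := by
      rcases e2 with e2 | e2
      · have : A.1 2 0 = 0 := e2
        rw [this, zero_mul]
      · rw [e2, map_zero, mul_zero]
    refine ⟨e1', e2', s, ?_⟩
    have e3' : A.1 0 0 * σ t + A.1 0 1 = A.1 0 1 + t * A.1 1 1 + s * A.1 2 1 := e3
    linear_combination e3'
  have g12 : ∀ t : F, A.1 2 1 * σ t = 0 ∧ A.1 1 1 * σ t = t * A.1 2 2 := by
    intro t
    obtain ⟨s, hs⟩ := h _ (mem12 t)
    have k1 := key h12 t s (mem12 t) hs
    have m2 : (tv h02 s * tv h12 t).1 = (1 + single 0 2 s) * (1 + single 1 2 t) := rfl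
    have e1 := entries k1 2 2
    have e2 := entries k1 1 2
    rw [m2] at e1 e2
    simp [tv_val, one_apply, single_apply, Matrix.mul_apply, Fin.sum_univ_three, Matrix.add_apply] at e1 e2
    have e1' : A.1 2 1 * σ t = 0 := by
      rcases e1 with e1 | e1
      · have : A.1 2 1 = 0 := e1
        rw [this, zero_mul]
      · rw [e1, map_zero, mul_zero]
    have e2' : A.1 1 1 * σ t + A.1 1 2 = A.1 1 2 + t * A.1 2 2 := e2
    exact ⟨e1', by linear_combination e2'⟩
  have a10 : A.1 1 0 = 0 := by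
    have := (g01 1).1
    rwa [map_one, mul_one] at this
  have a20 : A.1 2 0 = 0 := by
    have := (g01 1).2.1
    rwa [map_one, mul_one] at this
  have a21 : A.1 2 1 = 0 := by
    have := (g12 1).1
    rwa [map_one, mul_one] at this
  have a11 : A.1 1 1 = A.1 2 2 := by
    have := (g12 1).2
    rwa [map_one, mul_one, one_mul] at this
  have a00 : A.1 0 0 = A.1 1 1 := by
    obtain ⟨s, hs⟩ := (g01 1).2.2
    rwa [map_one, mul_one, one_mul, a21, mul_zero, add_zero] at hs
  have hd := det_three_ne A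
  rw [det_fin_three, a10, a20, a21, a00, a11] at hd
  have hd0 : A.1 2 2 ≠ 0 := by
    intro h0
    apply hd
    rw [h0]
    ring
  have hσ : ∀ t, σ t = t := by
    intro t
    have h1 := (g12 t).2
    rw [a11] at h1
    exact mul_left_cancel₀ hd0 (by rw [h1, mul_comm])
  obtain ⟨a, ha⟩ : ∃ a, a = A.1 2 2 := ⟨_, rfl⟩
  rw [← ha] at hd0 a11
  have hV : (a⁻¹ • A.1).det = 1 := by
    rw [det_smul, Fintype.card_fin, det_fin_three, a10, a20, a21, a00, a11, ← ha]
    field_simp
    ring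
  let V : Matrix.SpecialLinearGroup (Fin 3) F := ⟨a⁻¹ • A.1, hV⟩
  have hVv : A.1 = a • V.1 := by
    show A.1 = a • (a⁻¹ • A.1)
    rw [smul_smul, mul_inv_cancel₀ hd0, one_smul]
  refine ⟨V, ?_, fun x => ?_⟩
  · refine mem_upper.2 fun i j hij => ?_
    have hval : ∀ i j, V.1 i j = a⁻¹ * A.1 i j := fun i j => rfl
    rw [hval]
    fin_cases i <;> fin_cases j
    · show a⁻¹ * A.1 0 0 = if (0 : Fin 3) = 0 then 1 else 0
      rw [if_pos rfl, a00, a11, inv_mul_cancel₀ hd0]
    · exact absurd hij (by decide)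
    · exact absurd hij (by decide)
    · show a⁻¹ * A.1 1 0 = if (1 : Fin 3) = 0 then 1 else 0
      rw [if_neg (by decide), a10, mul_zero]
    · show a⁻¹ * A.1 1 1 = if (1 : Fin 3) = 1 then 1 else 0
      rw [if_pos rfl, a11, inv_mul_cancel₀ hd0]
    · exact absurd hij (by decide)
    · show a⁻¹ * A.1 2 0 = if (2 : Fin 3) = 0 then 1 else 0
      rw [if_neg (by decide), a20, mul_zero]
    · show a⁻¹ * A.1 2 1 = if (2 : Fin 3) = 1 then 1 else 0
      rw [if_neg (by decide), a21, mul_zero]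
    · show a⁻¹ * A.1 2 2 = if (2 : Fin 3) = 2 then 1 else 0
      rw [if_pos rfl, ← ha, inv_mul_cancel₀ hd0]
  · obtain ⟨x, rfl⟩ := pr_surjective x
    rw [lift_pr, ← map_mul, ← map_inv, ← map_mul]
    congr 1
    show cj A (fld σ x) = _
    have hx : fld σ x = x := by
      apply Subtype.ext
      ext i j
      rw [coe_fld_apply, hσ]
    rw [hx]
    have h1 : V * x = cj A x * V := by
      apply Subtype.ext
      show (a⁻¹ • A.1) * x.1 = (A.1 * x.1 * (A⁻¹ : GL (Fin 3) F).1) * (a⁻¹ • A.1)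
      rw [Matrix.mul_smul, Matrix.mul_assoc (A.1 * x.1), ← Units.val_mul, inv_mul_cancel, Units.val_one,
        Matrix.mul_one, Matrix.smul_mul]
    rw [h1, mul_inv_cancel_right]

/-- the centre of the unitriangular group -/
theorem eq_tv {u : Matrix.SpecialLinearGroup (Fin 3) F} (hu : u ∈ upper 3 F) (h1 : u * tv h01 1 = tv h01 1 * u)
    (h2 : u * tv h12 1 = tv h12 1 * u) : u = tv h02 (u.1 0 2) := by
  have hu' := mem_upper.1 hu
  have k1 : u.1 * (1 + single 0 1 (1 : F)) = (1 + single 0 1 1) * u.1 := congrArg Subtype.val h1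
  have k2 : u.1 * (1 + single 1 2 (1 : F)) = (1 + single 1 2 1) * u.1 := congrArg Subtype.val h2
  have e1 := entries k1 0 2
  have e2 := entries k2 0 2
  simp [one_apply, single_apply, Matrix.add_apply] at e1 e2
  have u12 : u.1 1 2 = 0 := e1
  have u01 : u.1 0 1 = 0 := e2
  apply Subtype.ext
  rw [tv_val]
  ext i j
  have hv : ∀ i j : Fin 3, (u : Matrix (Fin 3) (Fin 3) F) i j = u.1 i j := fun i j => rfl
  fin_cases i <;> fin_cases j
  · show u.1 0 0 = (1 : Matrix (Fin 3) (Fin 3) F) 0 0 + single 0 2 (u.1 0 2) 0 0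
    have := hu' 0 0 le_rfl
    rw [if_pos rfl] at this
    rw [this]; simp
  · show u.1 0 1 = (1 : Matrix (Fin 3) (Fin 3) F) 0 1 + single 0 2 (u.1 0 2) 0 1
    rw [u01]; simp
  · show u.1 0 2 = (1 : Matrix (Fin 3) (Fin 3) F) 0 2 + single 0 2 (u.1 0 2) 0 2
    simp
  · show u.1 1 0 = (1 : Matrix (Fin 3) (Fin 3) F) 1 0 + single 0 2 (u.1 0 2) 1 0
    have := hu' 1 0 (by decide)
    rw [if_neg (by decide)] at this
    rw [this]; simp
  · show u.1 1 1 = (1 : Matrix (Fin 3) (Fin 3) F) 1 1 + single 0 2 (u.1 0 2) 1 1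
    have := hu' 1 1 le_rfl
    rw [if_pos rfl] at this
    rw [this]; simp
  · show u.1 1 2 = (1 : Matrix (Fin 3) (Fin 3) F) 1 2 + single 0 2 (u.1 0 2) 1 2
    rw [u12]; simp
  · show u.1 2 0 = (1 : Matrix (Fin 3) (Fin 3) F) 2 0 + single 0 2 (u.1 0 2) 2 0
    have := hu' 2 0 (by decide)
    rw [if_neg (by decide)] at this
    rw [this]; simp
  · show u.1 2 1 = (1 : Matrix (Fin 3) (Fin 3) F) 2 1 + single 0 2 (u.1 0 2) 2 1
    have := hu' 2 1 (by decide)
    rw [if_neg (by decide)] at this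
    rw [this]; simp
  · show u.1 2 2 = (1 : Matrix (Fin 3) (Fin 3) F) 2 2 + single 0 2 (u.1 0 2) 2 2
    have := hu' 2 2 le_rfl
    rw [if_pos rfl] at this
    rw [this]; simp

end mat

/-- a Sylow subgroup of `A` meets `N` in a given Sylow subgroup, after a change of the isomorphism -/
theorem exists_iso {p : ℕ} [hp : Fact p.Prime] {A : Type*} [Group A] [Finite A] (N : Subgroup A) [hN : N.Normal]
    {S : Type*} [Group S] (e : N ≃* S) (P : Sylow p A) (Q : Sylow p S) :
    ∃ e' : N ≃* S, ∀ n : N, (n : A) ∈ (P : Subgroup A) ↔ e' n ∈ (Q : Subgroup S) := by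
  classical
  have : Finite S := Finite.of_equiv _ e.toEquiv
  let Q' : Sylow p N := Q.mapSurjective (f := e.symm.toMonoidHom) e.symm.surjective
  have hQ' : ∀ n : N, n ∈ (Q' : Subgroup N) ↔ e n ∈ (Q : Subgroup S) := by
    intro n
    have h1 : (Q' : Subgroup N) = (Q : Subgroup S).map e.symm.toMonoidHom := rfl
    rw [h1]
    constructor
    · rintro ⟨s, hs, rfl⟩
      have h0 : e (e.symm.toMonoidHom s) = s := e.apply_symm_apply s
      rw [h0]
      exact hs
    · intro h
      exact ⟨e n, h, by simp⟩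
  have h1 : IsPGroup p ((Q' : Subgroup N).map N.subtype) := Q'.2.map N.subtype
  obtain ⟨P1, hP1⟩ := h1.exists_le_sylow
  obtain ⟨g, hg⟩ := MulAction.exists_smul_eq A P P1
  have h2 : (Q' : Subgroup N) ≤ (P1 : Subgroup A).comap N.subtype := Subgroup.map_le_iff_le_comap.1 hP1
  have h3 : (P1 : Subgroup A).comap N.subtype = (Q' : Subgroup N) :=
    Q'.is_maximal' (P1.2.comap_of_injective N.subtype N.subtype_injective) h2
  refine ⟨(MulAut.conjNormal g).trans e, fun n => ?_⟩
  have h4 : ((MulAut.conjNormal g).trans e) n = e (MulAut.conjNormal g n) := rfl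
  rw [h4, ← hQ', ← h3, Subgroup.mem_comap]
  have h5 : N.subtype (MulAut.conjNormal g n) = g * n * g⁻¹ := MulAut.conjNormal_apply g n
  rw [h5, ← hg]
  constructor
  · intro h
    exact Subgroup.smul_mem_pointwise_smul (n : A) (MulAut.conj g) (P : Subgroup A) h
  · intro h
    have h6 : (MulAut.conj g)⁻¹ • (g * n * g⁻¹ : A) ∈ (P : Subgroup A) := by
      rwa [← Subgroup.mem_pointwise_smul_iff_inv_smul_mem]
    have h7 : (MulAut.conj g)⁻¹ • (g * n * g⁻¹ : A) = n := by
      rw [← map_inv, MulAut.smul_def, MulAut.conj_apply]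
      group
    rwa [h7] at h6

open scoped commutatorElement in
/-- **Outer automorphisms** : `[[P, P], P] = 1` forces `P ≤ N`. -/
theorem le_of_class_two {F : Type*} [Field F] [Fintype F] [CharP F 2] {A : Type*} [Group A] [Finite A] (N : Subgroup A)
    [hN : N.Normal] (e : N ≃* Matrix.ProjectiveSpecialLinearGroup (Fin 3) F)
    (hC : Subgroup.centralizer (N : Set A) = ⊥) (P : Sylow 2 A)
    (h : ∀ x ∈ (P : Subgroup A), ∀ y ∈ (P : Subgroup A), ∀ z ∈ (P : Subgroup A), ⁅⁅x, y⁆, z⁆ = 1) :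
    (P : Subgroup A) ≤ N := by
  classical
  have hp : Fact (Nat.Prime 2) := ⟨Nat.prime_two⟩
  obtain ⟨Q, hQ⟩ := exists_sylow (F := F) 3 2
  -- the Sylow subgroup `P ∩ N`, moved to the unitriangular group
  obtain ⟨e', he'⟩ : ∃ e' : N ≃* Matrix.ProjectiveSpecialLinearGroup (Fin 3) F, ∀ n : N, (n : A) ∈ (P : Subgroup A) ↔
      e' n ∈ (upper 3 F).map pr := by
    rw [← hQ]
    exact exists_iso N e P Q
  intro g hg
  -- conjugation by `g`
  let β : MulAut (Matrix.ProjectiveSpecialLinearGroup (Fin 3) F) :=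
    (e'.symm.trans (MulAut.conjNormal g)).trans e'
  have hβ : ∀ x, ((e'.symm (β x) : N) : A) = g * (e'.symm x : N) * g⁻¹ := by
    intro x
    show ((e'.symm (e' (MulAut.conjNormal g (e'.symm x))) : N) : A) = _
    rw [e'.symm_apply_apply, MulAut.conjNormal_apply]
  have key : ∀ u ∈ upper 3 F, ∃ s : F, β (pr u) = pr (tv h02 s * u) := by
    intro u hu
    -- `x` corresponds to `pr u`
    obtain ⟨x, hx⟩ : ∃ x : N, x = e'.symm (pr u) := ⟨_, rfl⟩
    have hxP : (x : A) ∈ (P : Subgroup A) := by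
      rw [he', hx, e'.apply_symm_apply]
      exact ⟨u, hu, rfl⟩
    have hgx : ((MulAut.conjNormal g x : N) : A) = g * x * g⁻¹ := MulAut.conjNormal_apply g x
    have hgxP : ((MulAut.conjNormal g x * x⁻¹ : N) : A) ∈ (P : Subgroup A) := by
      rw [Subgroup.coe_mul, hgx, Subgroup.coe_inv]
      exact mul_mem (mul_mem (mul_mem hg hxP) (inv_mem hg)) (inv_mem hxP)
    obtain ⟨w, hw, hwe⟩ := (he' _).1 hgxP
    have hcomm : ∀ v ∈ upper 3 F, w * v = v * w := by
      intro v hv
      have hvP : ((e'.symm (pr v) : N) : A) ∈ (P : Subgroup A) := by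
        rw [he', e'.apply_symm_apply]
        exact ⟨v, hv, rfl⟩
      have h1 := h g hg x hxP _ hvP
      have h2 : ((MulAut.conjNormal g x * x⁻¹ : N) : A) * (e'.symm (pr v) : N) =
          (e'.symm (pr v) : N) * ((MulAut.conjNormal g x * x⁻¹ : N) : A) := by
        rw [Subgroup.coe_mul, hgx, Subgroup.coe_inv]
        exact commutatorElement_eq_one_iff_mul_comm.1 h1
      have h3 : (MulAut.conjNormal g x * x⁻¹ : N) * (e'.symm (pr v) : N) =
          (e'.symm (pr v) : N) * (MulAut.conjNormal g x * x⁻¹ : N) := Subtype.ext h2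
      have h4 := congrArg e' h3
      rw [map_mul e' (MulAut.conjNormal g x * x⁻¹) (e'.symm (pr v)),
        map_mul e' (e'.symm (pr v)) (MulAut.conjNormal g x * x⁻¹), e'.apply_symm_apply, ← hwe, ← map_mul,
        ← map_mul] at h4
      exact pr_injOn_upper (mul_mem hw hv) (mul_mem hv hw) h4
    have h5 := eq_tv hw (hcomm _ (mem01 1)) (hcomm _ (mem12 1))
    refine ⟨w.1 0 2, ?_⟩
    rw [← h5, map_mul, hwe]
    have h6 : β (pr u) = e' (MulAut.conjNormal g x) := by
      rw [hx]
      rfl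
    rw [h6, map_mul, map_inv, hx, e'.apply_symm_apply, inv_mul_cancel_right]
  rcases surj_three 2 le_rfl β with ⟨M, σ, hM⟩ | ⟨M, σ, hM⟩
  · rw [hM] at key
    obtain ⟨v, hv, hx⟩ := conj_of_fld M σ key
    rw [← hM] at hx
    have h1 : ((e'.symm (pr v) : N) : A)⁻¹ * g ∈ Subgroup.centralizer (N : Set A) := by
      rw [Subgroup.mem_centralizer_iff]
      intro n hn
      have h2 := hβ (e' ⟨n, hn⟩)
      rw [hx, map_mul, map_mul, e'.symm_apply_apply, map_inv] at h2
      have h3 : ((e'.symm (pr v) : N) : A) * n * ((e'.symm (pr v) : N) : A)⁻¹ = g * n * g⁻¹ := h2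
      have h4 : ((e'.symm (pr v) : N) : A) * n = g * n * g⁻¹ * ((e'.symm (pr v) : N) : A) := by
        rw [← h3]; group
      calc n * (((e'.symm (pr v) : N) : A)⁻¹ * g) = ((e'.symm (pr v) : N) : A)⁻¹ *
            (((e'.symm (pr v) : N) : A) * n * ((e'.symm (pr v) : N) : A)⁻¹) * g := by group
        _ = _ := by rw [h3]; group
    rw [hC, Subgroup.mem_bot] at h1
    rw [← inv_mul_eq_one.1 h1]
    exact (e'.symm (pr v)).2
  · rw [hM] at key
    exact (false_of_itr M σ key).elim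

end Cfsg.Agent.H748.HT
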