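import Cfsg.Agent.H748.HT.LThree
import Cfsg.Agent.H40.HT.Low

/-!
# S4933: the lower bound for `PSL₃(q)` (helper748)
-/

set_option autoImplicit false

open Matrix

namespace Cfsg.Agent.H748.HT

open Cfsg.Agent.ClassicalGeometry.AutPSL.Auto Cfsg.Agent.ClassicalGeometry.AutPSL.Main
  Cfsg.Agent.ClassicalGeometry.AutPSL.Root Cfsg.Agent.ClassicalGeometry.AutPSL.SylowU Cfsg.Agent.H40.HT

variable {F : Type*} [Field F]

theorem tv_mul_same {i j : Fin 3} (h : i ≠ j) (a b : F) : tv h a * tv h b = tv h (a + b) := by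
  apply Subtype.ext
  show (1 + single i j a) * (1 + single i j b) = 1 + single i j (a + b)
  rw [add_mul, one_mul, mul_add, mul_one, single_mul_single_of_ne _ _ _ _ h.symm, add_zero, single_add, add_assoc,
    add_comm (single i j b)]

theorem tv_zero {i j : Fin 3} (h : i ≠ j) : tv h (0 : F) = 1 := by
  apply Subtype.ext
  show 1 + single i j (0 : F) = 1
  rw [single_zero, add_zero]

/-- a root subgroup -/
def rt {i j : Fin 3} (h : i ≠ j) (F : Type*) [Field F] : Multiplicative F →* Matrix.SpecialLinearGroup (Fin 3) F where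
  toFun a := tv h a.toAdd
  map_one' := tv_zero h
  map_mul' a b := (tv_mul_same h _ _).symm

theorem comm_12_02 (a b : F) : tv h12 a * tv h02 b = tv h02 b * tv h12 a := by
  apply Subtype.ext
  show (1 + single 1 2 a) * (1 + single 0 2 b) = (1 + single 0 2 b) * (1 + single 1 2 a)
  rw [add_mul, one_mul, mul_add, mul_one, add_mul, one_mul, mul_add, mul_one,
    single_mul_single_of_ne _ _ _ _ (by decide), single_mul_single_of_ne _ _ _ _ (by decide)]
  abel

theorem comm_01_02 (a b : F) : tv h01 a * tv h02 b = tv h02 b * tv h01 a := by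
  apply Subtype.ext
  show (1 + single 0 1 a) * (1 + single 0 2 b) = (1 + single 0 2 b) * (1 + single 0 1 a)
  rw [add_mul, one_mul, mul_add, mul_one, add_mul, one_mul, mul_add, mul_one,
    single_mul_single_of_ne _ _ _ _ (by decide), single_mul_single_of_ne _ _ _ _ (by decide)]
  abel

theorem comm_01_12 (a b : F) : tv h01 a * tv h12 b = tv h02 (a * b) * (tv h12 b * tv h01 a) := by
  apply Subtype.ext
  show (1 + single 0 1 a) * (1 + single 1 2 b) = (1 + single 0 2 (a * b)) * ((1 + single 1 2 b) * (1 + single 0 1 a))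
  have z1 : (single 1 2 b : Matrix (Fin 3) (Fin 3) F) * single 0 1 a = 0 := by
    rw [single_mul_single_of_ne]; decide
  have z2 : (single 0 2 (a * b) : Matrix (Fin 3) (Fin 3) F) * single 1 2 b = 0 := by
    rw [single_mul_single_of_ne]; decide
  have z3 : (single 0 2 (a * b) : Matrix (Fin 3) (Fin 3) F) * single 0 1 a = 0 := by
    rw [single_mul_single_of_ne]; decide
  simp only [mul_add, add_mul, mul_one, one_mul, single_mul_single_same, z1, z2, z3, mul_zero, add_zero]
  abel

theorem low_psl3 [Fintype F] (p : ℕ) [hp : Fact p.Prime] [CharP F p] :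
    Low p (Matrix.ProjectiveSpecialLinearGroup (Fin 3) F) (Fintype.card F) := by
  classical
  let f : Multiplicative F × Multiplicative F → Matrix.SpecialLinearGroup (Fin 3) F := fun x => rt h12 F x.1 * rt h02 F x.2
  have hf1 : f 1 = 1 := by
    show rt h12 F 1 * rt h02 F 1 = 1
    rw [map_one, map_one, one_mul]
  have hfm : ∀ x y, f (x * y) = f x * f y := by
    intro x y
    show rt h12 F (x.1 * y.1) * rt h02 F (x.2 * y.2) = rt h12 F x.1 * rt h02 F x.2 * (rt h12 F y.1 * rt h02 F y.2)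
    have h := comm_12_02 (F := F) y.1.toAdd x.2.toAdd
    have h' : rt h12 F y.1 * rt h02 F x.2 = rt h02 F x.2 * rt h12 F y.1 := h
    rw [map_mul, map_mul, mul_assoc, mul_assoc, ← mul_assoc (rt h12 F y.1), h']
    simp only [mul_assoc]
  let g : Multiplicative F × Multiplicative F →* Matrix.SpecialLinearGroup (Fin 3) F :=
    { toFun := f, map_one' := hf1, map_mul' := hfm }
  let A : Subgroup (Matrix.ProjectiveSpecialLinearGroup (Fin 3) F) := (pr.comp g).range
  let X : Subgroup (Matrix.ProjectiveSpecialLinearGroup (Fin 3) F) := (pr.comp (rt h01 F)).range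
  obtain ⟨Q, hQ⟩ := exists_sylow (F := F) 3 p
  have mr : ∀ {i j : Fin 3} (h : i ≠ j), (∀ t : F, tv h t ∈ upper 3 F) → ∀ a, rt h F a ∈ upper 3 F := fun h h1 a => h1 _
  have hA : A ≤ (Q : Subgroup _) := by
    rintro _ ⟨x, rfl⟩
    rw [hQ]
    exact ⟨g x, mul_mem (mr h12 mem12 _) (mr h02 mem02 _), rfl⟩
  have hX : X ≤ (Q : Subgroup _) := by
    rintro _ ⟨x, rfl⟩
    rw [hQ]
    exact ⟨_, mr h01 mem01 x, rfl⟩
  refine Low.of_heis A X (Q.2.to_le (sup_le hA hX)) ?_ ?_ (pr (tv h02 1)) ⟨(1, Multiplicative.ofAdd 1), ?_⟩ ?_ ?_ ?_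
  · rintro _ ⟨x, rfl⟩ _ ⟨y, rfl⟩
    obtain ⟨b, c⟩ := y
    refine ⟨(b, Multiplicative.ofAdd (x.toAdd * b.toAdd) * c), ?_⟩
    show pr (rt h12 F b * rt h02 F (Multiplicative.ofAdd (x.toAdd * b.toAdd) * c)) =
      pr (rt h01 F x) * pr (rt h12 F b * rt h02 F c) * (pr (rt h01 F x))⁻¹
    rw [eq_mul_inv_iff_mul_eq, ← map_mul pr, ← map_mul pr]
    congr 1
    have h1 : rt h01 F x * rt h12 F b = rt h02 F (Multiplicative.ofAdd (x.toAdd * b.toAdd)) * (rt h12 F b * rt h01 F x) :=
      comm_01_12 (F := F) _ _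
    have h2 : ∀ y, rt h01 F x * rt h02 F y = rt h02 F y * rt h01 F x := fun y => comm_01_02 (F := F) _ _
    have h3 : ∀ y, rt h12 F b * rt h02 F y = rt h02 F y * rt h12 F b := fun y => comm_12_02 (F := F) _ _
    rw [map_mul (rt h02 F), ← mul_assoc (rt h01 F x), h1]
    simp only [mul_assoc]
    rw [h2, ← mul_assoc (rt h12 F b) (rt h02 F _) , h3]
    simp only [mul_assoc]
  · rintro _ ⟨x, rfl⟩ _ ⟨y, rfl⟩
    rw [← map_mul (pr.comp g), ← map_mul (pr.comp g), mul_comm]
  · show pr (rt h12 F 1 * rt h02 F (Multiplicative.ofAdd 1)) = _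
    rw [map_one, one_mul]
    rfl
  · intro h
    rw [← map_one pr] at h
    have h1 := pr_injOn_upper (mem02 1) (one_mem (upper 3 F)) h
    have h2 := congrFun (congrFun (congrArg Subtype.val h1) 0) 2
    simp [tv_val] at h2
  · rintro _ ⟨x, rfl⟩ hx
    have hx0 : x.toAdd ≠ 0 := by
      intro h0
      apply hx
      have : x = 1 := h0
      rw [this, map_one]
    refine ⟨_, ⟨(Multiplicative.ofAdd (x.toAdd)⁻¹, 1), rfl⟩, ?_⟩
    show pr (rt h01 F x) * pr (rt h12 F _ * rt h02 F 1) * (pr (rt h01 F x))⁻¹ * (pr (rt h12 F _ * rt h02 F 1))⁻¹ = _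
    rw [map_one (rt h02 F), mul_one, mul_inv_eq_iff_eq_mul, mul_inv_eq_iff_eq_mul, ← map_mul pr, ← map_mul pr,
      ← map_mul pr]
    congr 1
    have h1 : rt h01 F x * rt h12 F (Multiplicative.ofAdd (x.toAdd)⁻¹) = _ := comm_01_12 (F := F) _ _
    rw [h1]
    show tv h02 (x.toAdd * (x.toAdd)⁻¹) * _ = _
    rw [mul_inv_cancel₀ hx0, mul_assoc]
    rfl
  · have hinj : Function.Injective (pr.comp (rt h01 F)) := by
      intro x y hxy
      have h1 := pr_injOn_upper (mr h01 mem01 x) (mr h01 mem01 y) hxy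
      have h2 := congrFun (congrFun (congrArg Subtype.val h1) 0) 1
      have h3 : ∀ z : Multiplicative F, (rt h01 F z).1 0 1 = z.toAdd := by
        intro z
        show (1 + single 0 1 z.toAdd : Matrix (Fin 3) (Fin 3) F) 0 1 = _
        simp
      rw [h3, h3] at h2
      exact h2
    rw [Nat.card_congr (MonoidHom.ofInjective hinj).toEquiv.symm, Nat.card_congr Multiplicative.toAdd,
      Nat.card_eq_fintype_card]

end Cfsg.Agent.H748.HT
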